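import Mathlib
import Groth.Agent.CAlgH.FrobW2

/-! Lifts of Frobenius to quotients of polynomial rings over `W₂(k)`. -/

set_option autoImplicit false
set_option linter.style.haveILetI false
set_option linter.unusedSectionVars false

open MvPolynomial

namespace Groth.Agent.FLiftCrit

universe u

variable (p : ℕ) [hp : Fact p.Prime] (k : Type u) [Field k] [CharP k p] [PerfectRing k p] {n m : ℕ}

/-- polynomials over `W₂(k)` -/
abbrev R' (n : ℕ) : Type u := MvPolynomial (Fin n) (FrobAlg.W2 p k)

/-- reduction -/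
noncomputable def red (n : ℕ) : R' p k n →+* MvPolynomial (Fin n) k := MvPolynomial.map (FrobAlg.res p k)

theorem res_surjective : Function.Surjective (FrobAlg.res p k) := fun a =>
  ⟨TruncatedWittVector.mk p ![a, 0], by rw [CAlgH.FrobW2.res_eq, TruncatedWittVector.coeff_mk]; rfl⟩

theorem red_surjective : Function.Surjective (red p k n) := map_surjective _ (res_surjective p k)

theorem ker_red : RingHom.ker (red p k n) = Ideal.span {(p : R' p k n)} := by
  rw [red, MvPolynomial.ker_map, CAlgH.FrobW2.ker_res, Ideal.map_span, Set.image_singleton, map_natCast]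

theorem red_eq_zero_iff (x : R' p k n) : red p k n x = 0 ↔ ∃ y, x = (p : R' p k n) * y := by
  rw [← RingHom.mem_ker, ker_red, Ideal.mem_span_singleton]; rfl

theorem p_mul_p : (p : R' p k n) * p = 0 := by
  rw [← map_natCast (C : FrobAlg.W2 p k →+* R' p k n), ← map_mul, CAlgH.FrobW2.p_mul_p, map_zero]

theorem red_p : red p k n (p : R' p k n) = 0 := (red_eq_zero_iff p k _).2 ⟨1, (mul_one _).symm⟩

theorem p_mul_congr {a b : R' p k n} (h : red p k n a = red p k n b) : (p : R' p k n) * a = p * b := by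
  obtain ⟨y, hy⟩ := (red_eq_zero_iff p k (a - b)).1 (by rw [map_sub, h, sub_self])
  rw [← sub_eq_zero, ← mul_sub, hy, ← mul_assoc, p_mul_p, zero_mul]

theorem res_sigma (w : FrobAlg.W2 p k) : FrobAlg.res p k (FrobAlg.sigma p k w) = FrobAlg.res p k w ^ p := by
  rw [CAlgH.FrobW2.res_eq, CAlgH.FrobW2.res_eq]
  exact TruncatedWittVector.coeff_mk _ _

theorem red_polyFrob (f : R' p k n) : red p k n (FrobAlg.polyFrob p k (Fin n) f) = red p k n f ^ p := by
  have : (red p k n).comp (FrobAlg.polyFrob p k (Fin n)) = (frobenius (MvPolynomial (Fin n) k) p).comp (red p k n) := by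
    refine MvPolynomial.ringHom_ext (fun w => ?_) fun i => ?_
    · simp only [RingHom.comp_apply, FrobAlg.polyFrob, eval₂Hom_C, red, map_C, frobenius_def, res_sigma, map_pow]
    · simp [FrobAlg.polyFrob, red, frobenius_def]
  simpa [frobenius_def] using RingHom.congr_fun this f

/-- the lift of Frobenius with `X j ↦ X j ^ p + p g j` -/
noncomputable def phi (g : Fin n → R' p k n) : R' p k n →+* R' p k n :=
  eval₂Hom (C.comp (FrobAlg.sigma p k)) fun i => X i ^ p + (p : R' p k n) * g i

theorem phi_eq (g : Fin n → R' p k n) (f : R' p k n) :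
    phi p k g f = FrobAlg.polyFrob p k (Fin n) f + (p : R' p k n) * ∑ j, pderiv j f ^ p * g j := by
  classical
  have h1 : phi p k g f = FrobAlg.polyFrob p k (Fin n) f +
      (p : R' p k n) * ∑ j, FrobAlg.polyFrob p k (Fin n) (pderiv j f) * g j := by
    induction f using MvPolynomial.induction_on with
    | C w => simp [phi, FrobAlg.polyFrob]
    | add a b ha hb =>
      simp only [map_add, ha, hb, add_mul, Finset.sum_add_distrib, mul_add]
      abel
    | mul_X a i ha =>
      have hX : phi p k g (X i) = X i ^ p + (p : R' p k n) * g i := by simp [phi]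
      have hX' : FrobAlg.polyFrob p k (Fin n) (X i) = (X i : R' p k n) ^ p := by simp [FrobAlg.polyFrob]
      have hd : ∀ j, FrobAlg.polyFrob p k (Fin n) (pderiv j (a * X i)) * g j =
          FrobAlg.polyFrob p k (Fin n) (pderiv j a) * g j * X i ^ p +
            (if i = j then FrobAlg.polyFrob p k (Fin n) a * g j else 0) := fun j => by
        rw [pderiv_mul, map_add, map_mul, map_mul, hX', add_mul]
        congr 1
        · ring
        · by_cases h : i = j
          · subst h; simp [pderiv_X]
          · simp [pderiv_X, Pi.single_apply, h, Ne.symm h]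
      rw [map_mul, ha, hX, map_mul, hX', Finset.sum_congr rfl (fun j _ => hd j), Finset.sum_add_distrib,
        Finset.sum_ite_eq, if_pos (Finset.mem_univ _), ← Finset.sum_mul]
      linear_combination (∑ j, FrobAlg.polyFrob p k (Fin n) (pderiv j a) * g j) * g i * p_mul_p p k (n := n)
  rw [h1, Finset.mul_sum, Finset.mul_sum]
  congr 1
  refine Finset.sum_congr rfl fun j _ => ?_
  rw [← mul_assoc, ← mul_assoc, p_mul_congr p k (red_polyFrob p k (pderiv j f)
    |>.trans (map_pow _ _ _).symm)]

theorem red_phi (g : Fin n → R' p k n) (f : R' p k n) : red p k n (phi p k g f) = red p k n f ^ p := by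
  rw [phi_eq, map_add, map_mul, red_p, zero_mul, add_zero, red_polyFrob]

theorem criterion (f' : Fin m → R' p k n)
    (htor : ∀ x : R' p k n, (p : R' p k n) * x ∈ Ideal.span (Set.range f') →
      ∃ y, x - (p : R' p k n) * y ∈ Ideal.span (Set.range f')) :
    (∃ Φ : (R' p k n ⧸ Ideal.span (Set.range f')) →+* (R' p k n ⧸ Ideal.span (Set.range f')),
      Φ.comp ((Ideal.Quotient.mk (Ideal.span (Set.range f'))).comp C) =
        ((Ideal.Quotient.mk (Ideal.span (Set.range f'))).comp C).comp (FrobAlg.sigma p k) ∧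
      ∀ b, Ideal.quotientMap ((Ideal.span (Set.range f')).map (MvPolynomial.map (FrobAlg.res p k)))
          (MvPolynomial.map (FrobAlg.res p k)) Ideal.le_comap_map (Φ b) =
        (Ideal.quotientMap ((Ideal.span (Set.range f')).map (MvPolynomial.map (FrobAlg.res p k)))
          (MvPolynomial.map (FrobAlg.res p k)) Ideal.le_comap_map b) ^ p) ↔
    ∃ h : Fin n → R' p k n, ∀ i,
      FrobAlg.polyFrob p k (Fin n) (f' i) - f' i ^ p - (p : R' p k n) * ∑ j, pderiv j (f' i) ^ p * h j
        ∈ Ideal.span {(p : R' p k n)} * Ideal.span (Set.range f') := by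
  classical
  set J := Ideal.span (Set.range f') with hJ
  have hqm : ∀ r : R' p k n, Ideal.quotientMap (J.map (MvPolynomial.map (FrobAlg.res p k)))
      (MvPolynomial.map (FrobAlg.res p k)) Ideal.le_comap_map (Ideal.Quotient.mk J r) =
      Ideal.Quotient.mk _ (red p k n r) := fun r => Ideal.quotientMap_mk
  have hfJ : ∀ i, f' i ∈ J := fun i => Ideal.subset_span ⟨i, rfl⟩
  constructor
  · rintro ⟨Φ, hΦ1, hΦ2⟩
    have hex : ∀ j, ∃ g, Φ (Ideal.Quotient.mk J (X j)) = Ideal.Quotient.mk J (X j ^ p + (p : R' p k n) * g) := fun j => by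
      obtain ⟨y, hy⟩ := Ideal.Quotient.mk_surjective (Φ (Ideal.Quotient.mk J (X j)))
      have h := hΦ2 (Ideal.Quotient.mk J (X j))
      rw [← hy, hqm, hqm, ← map_pow, ← map_pow, Ideal.Quotient.eq] at h
      rw [← map_sub] at h
      obtain ⟨z, hz, hzy⟩ := (Ideal.mem_map_iff_of_surjective _ (red_surjective p k)).1 h
      obtain ⟨g, hg⟩ := (red_eq_zero_iff p k (y - X j ^ p - z)).1 (by
        rw [map_sub]; exact sub_eq_zero.2 hzy.symm)
      exact ⟨g, hy.symm.trans ((Ideal.Quotient.eq).2 (by
        rwa [show y - (X j ^ p + (p : R' p k n) * g) = z by rw [← hg]; ring]))⟩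
    choose g hg using hex
    have hΦ : Φ.comp (Ideal.Quotient.mk J) = (Ideal.Quotient.mk J).comp (phi p k g) := by
      refine MvPolynomial.ringHom_ext (fun w => ?_) fun j => ?_
      · have := RingHom.congr_fun hΦ1 w
        simp only [RingHom.comp_apply] at this
        simp [phi, this]
      · simp [phi, hg]
    refine ⟨fun j => - g j, fun i => ?_⟩
    have h0 : Ideal.Quotient.mk J (phi p k g (f' i)) = 0 := by
      rw [← RingHom.comp_apply, ← hΦ, RingHom.comp_apply, Ideal.Quotient.eq_zero_iff_mem.2 (hfJ i), map_zero]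
    rw [Ideal.Quotient.eq_zero_iff_mem, phi_eq] at h0
    set e := FrobAlg.polyFrob p k (Fin n) (f' i) + (p : R' p k n) * ∑ j, pderiv j (f' i) ^ p * g j - f' i ^ p with he
    have heJ : e ∈ J := sub_mem h0 (J.pow_mem_of_mem (hfJ i) p hp.out.pos)
    obtain ⟨x, hx⟩ := (red_eq_zero_iff p k e).1 (by
      rw [he, map_sub, map_add, map_mul, red_p, zero_mul, add_zero, red_polyFrob, map_pow, sub_self])
    obtain ⟨y, hy⟩ := htor x (hx ▸ heJ)
    have hgoal : FrobAlg.polyFrob p k (Fin n) (f' i) - f' i ^ p - (p : R' p k n) * ∑ j, pderiv j (f' i) ^ p * -g j =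
        (p : R' p k n) * (x - (p : R' p k n) * y) := by
      have h3 : (p : R' p k n) * (x - (p : R' p k n) * y) = (p : R' p k n) * x := by
        rw [mul_sub, ← mul_assoc, p_mul_p, zero_mul, sub_zero]
      have h4 : ∑ j, pderiv j (f' i) ^ p * -g j = - ∑ j, pderiv j (f' i) ^ p * g j := by
        rw [← Finset.sum_neg_distrib]
        exact Finset.sum_congr rfl fun j _ => mul_neg _ _
      rw [h3, ← hx, he, h4, mul_neg]
      abel
    rw [hgoal]
    exact Ideal.mul_mem_mul (Ideal.mem_span_singleton_self _) hy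
  · rintro ⟨h, hh⟩
    let g : Fin n → R' p k n := fun j => - h j
    have hker : Ideal.span (Set.range f') ≤ RingHom.ker ((Ideal.Quotient.mk J).comp (phi p k g)) := by
      rw [Ideal.span_le]
      rintro _ ⟨i, rfl⟩
      rw [SetLike.mem_coe, RingHom.mem_ker, RingHom.comp_apply, Ideal.Quotient.eq_zero_iff_mem, phi_eq]
      have h1 : FrobAlg.polyFrob p k (Fin n) (f' i) + (p : R' p k n) * ∑ j, pderiv j (f' i) ^ p * g j =
          (FrobAlg.polyFrob p k (Fin n) (f' i) - f' i ^ p - (p : R' p k n) * ∑ j, pderiv j (f' i) ^ p * h j) +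
            f' i ^ p := by
        simp only [g, mul_neg, Finset.sum_neg_distrib]
        ring
      rw [h1]
      have hle : Ideal.span {(p : R' p k n)} * J ≤ J := Ideal.mul_le_right
      exact J.add_mem (hle (hh i)) (J.pow_mem_of_mem (hfJ i) p hp.out.pos)
    refine ⟨Ideal.Quotient.lift J ((Ideal.Quotient.mk J).comp (phi p k g)) (fun a ha => hker ha), RingHom.ext fun w => ?_, fun b => ?_⟩
    · exact congrArg (Ideal.Quotient.mk J) (eval₂Hom_C _ _ w)
    · obtain ⟨r, rfl⟩ := Ideal.Quotient.mk_surjective b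
      have hl : Ideal.Quotient.lift J ((Ideal.Quotient.mk J).comp (phi p k g)) (fun a ha => hker ha)
          (Ideal.Quotient.mk J r) = Ideal.Quotient.mk J (phi p k g r) := rfl
      rw [hl, hqm, hqm, red_phi, map_pow]

theorem htor_of_flat (f' : Fin m → R' p k n)
    (hflat : ((Ideal.Quotient.mk (Ideal.span (Set.range f'))).comp (C : FrobAlg.W2 p k →+* R' p k n)).Flat)
    (x : R' p k n) (hx : (p : R' p k n) * x ∈ Ideal.span (Set.range f')) :
    ∃ y, x - (p : R' p k n) * y ∈ Ideal.span (Set.range f') := by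
  letI := ((Ideal.Quotient.mk (Ideal.span (Set.range f'))).comp (C : FrobAlg.W2 p k →+* R' p k n)).toAlgebra
  obtain ⟨b, hb⟩ := (CAlgH.FrobW2.flat_iff_alg _).1 hflat (Ideal.Quotient.mk (Ideal.span (Set.range f')) x)
    (by rw [← map_natCast (Ideal.Quotient.mk (Ideal.span (Set.range f'))), ← map_mul, Ideal.Quotient.eq_zero_iff_mem]
        exact hx)
  obtain ⟨y, rfl⟩ := Ideal.Quotient.mk_surjective b
  exact ⟨y, (Ideal.Quotient.eq).1 (by rw [hb, map_mul, map_natCast])⟩

/-- relations between a regular sequence lift -/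
theorem lift_relation : ∀ {m : ℕ} (f' : Fin m → R' p k n),
    RingTheory.Sequence.IsWeaklyRegular (MvPolynomial (Fin n) k) (List.ofFn fun i => red p k n (f' i)) →
    ∀ a : Fin m → MvPolynomial (Fin n) k, ∑ i, a i * red p k n (f' i) = 0 →
      ∃ a' : Fin m → R' p k n, (∀ i, red p k n (a' i) = a i) ∧ ∑ i, a' i * f' i = 0 := by
  intro m
  induction m with
  | zero => exact fun _ _ _ _ => ⟨Fin.elim0, fun i => i.elim0, by simp⟩
  | succ m ih =>
    intro f' hreg a ha
    rw [List.ofFn_succ', List.concat_eq_append, RingTheory.Sequence.isWeaklyRegular_append_iff,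
      RingTheory.Sequence.isWeaklyRegular_singleton_iff] at hreg
    set I := Ideal.ofList (List.ofFn fun i : Fin m => red p k n (f' i.castSucc)) with hI
    have hIspan : I = Ideal.span (Set.range fun i : Fin m => red p k n (f' i.castSucc)) := by
      rw [hI, Ideal.ofList]
      congr 1
      ext x
      simp [List.mem_ofFn]
    rw [Fin.sum_univ_castSucc] at ha
    have hmem : red p k n (f' (Fin.last m)) * a (Fin.last m) ∈ I := by
      rw [hIspan, Ideal.mem_span_range_iff_exists_fun]
      exact ⟨fun i => - a i.castSucc, by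
        simp only [neg_mul, Finset.sum_neg_distrib]; linear_combination -ha⟩
    have ha0 : a (Fin.last m) ∈ I := by
      have htop : ∀ x, x ∈ (I • ⊤ : Submodule (MvPolynomial (Fin n) k) (MvPolynomial (Fin n) k)) ↔ x ∈ I := fun x => by
        rw [smul_eq_mul, Ideal.mul_top]
      have h0 : Submodule.Quotient.mk (p := (I • ⊤ : Submodule (MvPolynomial (Fin n) k) (MvPolynomial (Fin n) k)))
          (a (Fin.last m)) = 0 := hreg.2 (by
        simp only [smul_zero, ← Submodule.Quotient.mk_smul, Submodule.Quotient.mk_eq_zero]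
        rw [htop, smul_eq_mul]
        exact hmem)
      rwa [Submodule.Quotient.mk_eq_zero, htop] at h0
    rw [hIspan, Ideal.mem_span_range_iff_exists_fun] at ha0
    obtain ⟨c, hc⟩ := ha0
    choose c' hc' using fun i => red_surjective p k (c i)
    obtain ⟨b, hb, hb'⟩ := ih (fun i : Fin m => f' i.castSucc) hreg.1
      (fun i : Fin m => a i.castSucc + c i * red p k n (f' (Fin.last m))) (by
        have h2 : ∑ i : Fin m, (a i.castSucc + c i * red p k n (f' (Fin.last m))) * red p k n (f' i.castSucc) =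
            ∑ i : Fin m, a i.castSucc * red p k n (f' i.castSucc) +
              red p k n (f' (Fin.last m)) * ∑ i, c i * red p k n (f' i.castSucc) := by
          rw [Finset.mul_sum, ← Finset.sum_add_distrib]
          exact Finset.sum_congr rfl fun i _ => by ring
        rw [h2, hc]; linear_combination ha)
    refine ⟨Fin.snoc (fun i => b i - c' i * f' (Fin.last m)) (∑ i, c' i * f' i.castSucc), fun i => ?_, ?_⟩
    · induction i using Fin.lastCases with
      | last => rw [Fin.snoc_last, map_sum]; simp only [map_mul, hc']; exact hc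
      | cast i => rw [Fin.snoc_castSucc, map_sub, map_mul, hc', hb, add_sub_cancel_right]
    · rw [Fin.sum_univ_castSucc]
      simp only [Fin.snoc_castSucc, Fin.snoc_last, sub_mul, Finset.sum_sub_distrib]
      rw [hb', Finset.sum_mul, zero_sub, ← Finset.sum_neg_distrib, ← Finset.sum_add_distrib]
      exact Finset.sum_eq_zero fun i _ => by ring

theorem htor_of_regular (f' : Fin m → R' p k n)
    (hreg : RingTheory.Sequence.IsWeaklyRegular (MvPolynomial (Fin n) k) (List.ofFn fun i => red p k n (f' i)))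
    (x : R' p k n) (hx : (p : R' p k n) * x ∈ Ideal.span (Set.range f')) :
    ∃ y, x - (p : R' p k n) * y ∈ Ideal.span (Set.range f') := by
  obtain ⟨a, ha⟩ := Ideal.mem_span_range_iff_exists_fun.1 hx
  obtain ⟨a', ha1, ha2⟩ := lift_relation p k f' hreg (fun i => red p k n (a i)) (by
    simp only [← map_mul, ← map_sum, ha]; rw [map_mul, red_p, zero_mul])
  choose b hb using fun i => (red_eq_zero_iff p k (a i - a' i)).1 (by rw [map_sub, ha1, sub_self])
  have hpx : (p : R' p k n) * x = p * ∑ i, b i * f' i := by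
    rw [← ha, Finset.mul_sum]
    calc ∑ i, a i * f' i = ∑ i, a i * f' i - ∑ i, a' i * f' i := by rw [ha2, sub_zero]
      _ = _ := by
        rw [← Finset.sum_sub_distrib]
        exact Finset.sum_congr rfl fun i _ => by rw [← sub_mul, hb, mul_assoc]
  have hred : red p k n (x - ∑ i, b i * f' i) = 0 := by
    have h1 : (p : R' p k n) * (x - ∑ i, b i * f' i) = 0 := by rw [mul_sub, hpx, sub_self]
    rw [red, MvPolynomial.ext_iff]
    intro d
    have h2 := congrArg (MvPolynomial.coeff d) h1
    rw [← map_natCast (C : FrobAlg.W2 p k →+* R' p k n), coeff_C_mul, coeff_zero] at h2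
    obtain ⟨y, hy⟩ := CAlgH.FrobW2.eq_p_mul_of_p_mul_eq_zero h2
    rw [coeff_map, hy, map_mul, coeff_zero, ← RingHom.mem_ker.1 (by rw [CAlgH.FrobW2.ker_res]; exact Ideal.mem_span_singleton_self _ :
      (p : FrobAlg.W2 p k) ∈ RingHom.ker (FrobAlg.res p k))]
    rw [RingHom.mem_ker.1 (by rw [CAlgH.FrobW2.ker_res]; exact Ideal.mem_span_singleton_self _ :
      (p : FrobAlg.W2 p k) ∈ RingHom.ker (FrobAlg.res p k)), zero_mul]
  obtain ⟨y, hy⟩ := (red_eq_zero_iff p k _).1 hred
  refine ⟨y, ?_⟩
  rw [← hy, sub_sub_cancel]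
  exact Ideal.mem_span_range_iff_exists_fun.2 ⟨b, rfl⟩

theorem isFLiftable_iff (f : Fin m → MvPolynomial (Fin n) k)
    (hreg : RingTheory.Sequence.IsRegular (MvPolynomial (Fin n) k) (List.ofFn f)) :
    FrobAlg.IsFLiftable p k (MvPolynomial (Fin n) k ⧸ Ideal.span (Set.range f)) ↔
    ∃ (f' : Fin m → R' p k n) (h : Fin n → R' p k n),
      (∀ i, MvPolynomial.map (FrobAlg.res p k) (f' i) = f i) ∧
      ∀ i, FrobAlg.polyFrob p k (Fin n) (f' i) - f' i ^ p
        - (p : R' p k n) * ∑ j, pderiv j (f' i) ^ p * h j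
        ∈ Ideal.span {(p : R' p k n)} * Ideal.span (Set.range f') := by
  classical
  set I := Ideal.span (Set.range f) with hI
  have hmap : ∀ f' : Fin m → R' p k n, (∀ i, red p k n (f' i) = f i) →
      (Ideal.span (Set.range f')).map (red p k n) = I := fun f' hf' => by
    rw [hI, Ideal.map_span, ← Set.range_comp]
    congr 2
    funext i
    exact hf' i
  constructor
  · rintro ⟨B, _, ι, π, Φ, hF⟩
    have hL := hF.toIsLift
    choose x hx using fun j => hL.surj (Ideal.Quotient.mk I (X j))
    let q : R' p k n →+* B := eval₂Hom ι x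
    have hπq : ∀ r, π (q r) = Ideal.Quotient.mk I (red p k n r) := RingHom.congr_fun
      (show π.comp q = (Ideal.Quotient.mk I).comp (red p k n) from MvPolynomial.ringHom_ext
        (fun w => by
          have := RingHom.congr_fun hL.comm w
          simp only [RingHom.comp_apply] at this
          simp only [RingHom.comp_apply, q, eval₂Hom_C, this, red, map_C]
          rfl)
        (fun j => by simp [q, red, hx]))
    have hsurj : ∀ b : B, ∃ r, q r = b := fun b => by
      have h1 : ∀ b : B, ∃ r c, b = q r + (p : B) * c := fun b => by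
        obtain ⟨rb, hrb⟩ := Ideal.Quotient.mk_surjective (π b)
        obtain ⟨r, rfl⟩ := red_surjective p k rb
        obtain ⟨c, hc⟩ := (CAlgH.FrobW2.π_eq_zero_iff hL (b - q r)).1 (by rw [map_sub, hπq, hrb, sub_self])
        exact ⟨r, c, eq_add_of_sub_eq' hc⟩
      obtain ⟨r, c, rfl⟩ := h1 b
      obtain ⟨r', c', rfl⟩ := h1 c
      exact ⟨r + (p : R' p k n) * r', by
        rw [map_add, map_mul, map_natCast, mul_add, ← mul_assoc _ _ c', CAlgH.FrobW2.natCast_mul_natCast hL,
          zero_mul, add_zero]⟩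
    have hlift : ∀ i, ∃ r, q r = 0 ∧ red p k n r = f i := fun i => by
      obtain ⟨r, hr⟩ := red_surjective p k (f i)
      obtain ⟨c, hc⟩ := (CAlgH.FrobW2.π_eq_zero_iff hL (q r)).1 (by
        rw [hπq, hr, Ideal.Quotient.eq_zero_iff_mem]; exact Ideal.subset_span ⟨i, rfl⟩)
      obtain ⟨r', rfl⟩ := hsurj c
      exact ⟨r - (p : R' p k n) * r', by rw [map_sub, map_mul, map_natCast, hc, sub_self],
        by rw [map_sub, map_mul, red_p, zero_mul, sub_zero, hr]⟩
    choose f' hf'q hf' using hlift
    have hker : RingHom.ker q = Ideal.span (Set.range f') := by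
      refine le_antisymm (fun r hr => ?_) (Ideal.span_le.2 (Set.range_subset_iff.2 hf'q))
      have hstep : ∀ s, π (q s) = 0 → ∃ s₁ ∈ Ideal.span (Set.range f'), ∃ y, s = s₁ + (p : R' p k n) * y := fun s hs => by
        rw [hπq, Ideal.Quotient.eq_zero_iff_mem, ← hmap f' hf',
          Ideal.mem_map_iff_of_surjective _ (red_surjective p k)] at hs
        obtain ⟨s₁, hs₁, he⟩ := hs
        obtain ⟨y, hy⟩ := (red_eq_zero_iff p k (s - s₁)).1 (by rw [map_sub, he, sub_self])
        exact ⟨s₁, hs₁, y, eq_add_of_sub_eq' hy⟩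
      obtain ⟨s₁, hs₁, y, rfl⟩ := hstep r (by rw [RingHom.mem_ker.1 hr, map_zero])
      have hq1 : q s₁ = 0 := RingHom.mem_ker.1 ((Ideal.span_le.2 (Set.range_subset_iff.2 hf'q)) hs₁)
      rw [RingHom.mem_ker, map_add, map_mul, map_natCast, hq1, zero_add, CAlgH.FrobW2.p_mul_eq_zero_iff hL] at hr
      obtain ⟨s₂, hs₂, z, rfl⟩ := hstep y hr
      rw [mul_add, ← mul_assoc, p_mul_p, zero_mul, add_zero]
      exact add_mem hs₁ (Ideal.mul_mem_left _ _ hs₂)
    have hred : RingTheory.Sequence.IsWeaklyRegular (MvPolynomial (Fin n) k) (List.ofFn fun i => red p k n (f' i)) := by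
      simp only [hf']; exact hreg.toIsWeaklyRegular
    let e : (R' p k n ⧸ Ideal.span (Set.range f')) ≃+* B :=
      (Ideal.quotEquivOfEq hker.symm).trans (RingHom.quotientKerEquivOfSurjective hsurj)
    have he : ∀ r, e (Ideal.Quotient.mk _ r) = q r := fun r => rfl
    suffices hh : ∃ h : Fin n → R' p k n, ∀ i,
        FrobAlg.polyFrob p k (Fin n) (f' i) - f' i ^ p - (p : R' p k n) * ∑ j, pderiv j (f' i) ^ p * h j
          ∈ Ideal.span {(p : R' p k n)} * Ideal.span (Set.range f') from ⟨f', hh.choose, hf', hh.choose_spec⟩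
    refine (criterion p k f' (htor_of_regular p k f' hred)).1
      ⟨(e.symm.toRingHom.comp Φ).comp e.toRingHom, RingHom.ext fun w => e.injective ?_, fun b => ?_⟩
    · simp only [RingHom.comp_apply, RingEquiv.toRingHom_eq_coe, RingHom.coe_coe, RingEquiv.apply_symm_apply, he]
      rw [show q (C w) = ι w by simp [q], show q (C (FrobAlg.sigma p k w)) = ι (FrobAlg.sigma p k w) by simp [q]]
      exact RingHom.congr_fun hF.semi w
    · obtain ⟨r, rfl⟩ := Ideal.Quotient.mk_surjective b
      obtain ⟨r', hr'⟩ := hsurj (Φ (q r))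
      simp only [RingHom.comp_apply, RingEquiv.toRingHom_eq_coe, RingHom.coe_coe, he]
      rw [← hr', ← he, RingEquiv.symm_apply_apply, Ideal.quotientMap_mk, Ideal.quotientMap_mk, ← map_pow,
        Ideal.Quotient.eq, show (Ideal.span (Set.range f')).map (MvPolynomial.map (FrobAlg.res p k)) = I from hmap f' hf',
        ← Ideal.Quotient.eq]
      show Ideal.Quotient.mk I (red p k n r') = Ideal.Quotient.mk I (red p k n r ^ p)
      rw [← hπq, hr', hF.red, hπq, map_pow]
  · rintro ⟨f', h, hf', hh⟩
    have hred : RingTheory.Sequence.IsWeaklyRegular (MvPolynomial (Fin n) k) (List.ofFn fun i => red p k n (f' i)) := by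
      simp only [show ∀ i, red p k n (f' i) = f i from hf']; exact hreg.toIsWeaklyRegular
    set J := Ideal.span (Set.range f')
    obtain ⟨Φ, hΦ1, hΦ2⟩ := (criterion p k f' (htor_of_regular p k f' hred)).2 ⟨h, hh⟩
    let π : (R' p k n ⧸ J) →+* (MvPolynomial (Fin n) k ⧸ I) :=
      Ideal.quotientMap I (red p k n) (Ideal.map_le_iff_le_comap.1 (hmap f' hf').le)
    have hπ : ∀ r, π (Ideal.Quotient.mk J r) = Ideal.Quotient.mk I (red p k n r) := fun r => Ideal.quotientMap_mk
    refine ⟨R' p k n ⧸ J, inferInstance, (Ideal.Quotient.mk J).comp C, π, Φ,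
      ⟨CAlgH.FrobW2.isLift_iff.2 ⟨fun b hb => ?_, fun a => ?_, ?_, ?_⟩, hΦ1, fun b => ?_⟩⟩
    · obtain ⟨x, rfl⟩ := Ideal.Quotient.mk_surjective b
      rw [← map_natCast (Ideal.Quotient.mk J), ← map_mul, Ideal.Quotient.eq_zero_iff_mem] at hb
      obtain ⟨y, hy⟩ := htor_of_regular p k f' hred x hb
      exact ⟨Ideal.Quotient.mk J y, by rw [← map_natCast (Ideal.Quotient.mk J), ← map_mul, Ideal.Quotient.eq]; exact hy⟩
    · obtain ⟨a, rfl⟩ := Ideal.Quotient.mk_surjective a
      obtain ⟨r, rfl⟩ := red_surjective p k a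
      exact ⟨_, hπ r⟩
    · refine le_antisymm (fun b hb => ?_) (Ideal.span_le.2 (Set.singleton_subset_iff.2 ?_))
      · obtain ⟨r, rfl⟩ := Ideal.Quotient.mk_surjective b
        rw [RingHom.mem_ker, hπ, Ideal.Quotient.eq_zero_iff_mem, ← hmap f' hf',
          Ideal.mem_map_iff_of_surjective _ (red_surjective p k)] at hb
        obtain ⟨s, hs, he⟩ := hb
        obtain ⟨y, hy⟩ := (red_eq_zero_iff p k (r - s)).1 (by rw [map_sub, he, sub_self])
        rw [Ideal.mem_span_singleton]
        refine ⟨Ideal.Quotient.mk J y, ?_⟩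
        rw [← map_natCast (Ideal.Quotient.mk J), ← map_mul, Ideal.Quotient.eq, ← hy, sub_sub_cancel]
        exact hs
      · rw [SetLike.mem_coe, RingHom.mem_ker, ← map_natCast (Ideal.Quotient.mk J), hπ, red_p, map_zero]
    · refine RingHom.ext fun w => ?_
      simp only [RingHom.comp_apply, hπ, red, map_C]
      rfl
    · obtain ⟨r, rfl⟩ := Ideal.Quotient.mk_surjective b
      obtain ⟨r', hr'⟩ := Ideal.Quotient.mk_surjective (Φ (Ideal.Quotient.mk J r))
      have h2 := hΦ2 (Ideal.Quotient.mk J r)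
      rw [← hr', Ideal.quotientMap_mk, Ideal.quotientMap_mk, ← map_pow, Ideal.Quotient.eq] at h2
      rw [← hr', hπ, hπ, ← map_pow, Ideal.Quotient.eq, ← hmap f' hf']
      exact h2

end Groth.Agent.FLiftCrit
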